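import Groth.Agent.S0315
import Groth.Agent.S0317
import Groth.Agent.S5158
import Groth.Agent.AdicBasics.Dimension

/-!
# The theorem of Hartshorne, Speiser and Lyubeznik on locally nilpotent semilinear maps
-/

set_option autoImplicit false

universe u v

open Function

namespace Groth.Agent.HSL

/-- A locally nilpotent semilinear endomorphism of an Artinian module over a complete ring is nilpotent. -/
theorem nilpotent_complete (R : Type u) [CommRing R] [IsLocalRing R] [IsNoetherianRing R]
    [IsAdicComplete (IsLocalRing.maximalIdeal R) R] (M : Type u) [AddCommGroup M] [Module R M] [IsArtinian R M]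
    (p : ℕ) (hp : 2 ≤ p) (φ : M →+ M) (hφ : ∀ (a : R) (x : M), φ (a • x) = a ^ p • φ x)
    (hloc : ∀ x : M, ∃ n : ℕ, (⇑φ)^[n] x = 0) : ∃ n : ℕ, ∀ x : M, (⇑φ)^[n] x = 0 := by
  classical
  obtain ⟨E, _, _, f, hf⟩ := InjHull.exists_isInjectiveHull R (IsLocalRing.ResidueField R)
  have : Module.Finite R (M →ₗ[R] E) := (Groth.Agent.S0317.result R E f hf M).1
  have hE : Module.Injective R E := hf.isInjective
  have hit : ∀ (n : ℕ) (a : R) (x : M), (⇑φ)^[n] (a • x) = a ^ (p ^ n) • (⇑φ)^[n] x := by
    intro n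
    induction n with
    | zero => simp
    | succ n ih => intro a x; rw [iterate_succ_apply', ih, hφ, ← pow_mul, iterate_succ_apply', pow_succ]
  have hadd : ∀ (n : ℕ) (x y : M), (⇑φ)^[n] (x + y) = (⇑φ)^[n] x + (⇑φ)^[n] y := fun n =>
    iterate_map_add φ n
  have hzero : ∀ n : ℕ, (⇑φ)^[n] (0 : M) = 0 := fun n => iterate_map_zero φ n
  let N : ℕ → Submodule R M := fun n =>
    { carrier := {x | (⇑φ)^[n] x = 0}
      add_mem' := fun {x y} hx hy => by
        simp only [Set.mem_ofPred_eq] at hx hy ⊢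
        rw [hadd, hx, hy, add_zero]
      zero_mem' := hzero n
      smul_mem' := fun a x hx => by
        simp only [Set.mem_ofPred_eq] at hx ⊢
        rw [hit, hx, smul_zero] }
  have hNmono : ∀ n k, N n ≤ N (n + k) := fun n k x hx => by
    show (⇑φ)^[n + k] x = 0
    rw [add_comm, iterate_add_apply, show (⇑φ)^[n] x = 0 from hx, hzero]
  let D : ℕ → Submodule R (M →ₗ[R] E) := fun n => LinearMap.ker (LinearMap.lcomp R E (N n).subtype)
  have hmemD : ∀ n (g : M →ₗ[R] E), g ∈ D n ↔ ∀ x ∈ N n, g x = 0 := fun n g =>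
    ⟨fun h x hx => LinearMap.congr_fun (LinearMap.mem_ker.1 h) ⟨x, hx⟩,
      fun h => LinearMap.mem_ker.2 (LinearMap.ext fun x => h x x.2)⟩
  have hsep : ∀ n (x : M), (∀ g ∈ D n, g x = 0) → x ∈ N n := by
    intro n x h
    by_contra hx
    obtain ⟨g, hg⟩ := InjHull.exists_dual_apply_ne_zero (m := IsLocalRing.maximalIdeal R) (f := f) hf
      (x := (N n).mkQ x) fun a ha => by
        by_contra hmax
        have hu : IsUnit a := by simpa [IsLocalRing.mem_maximalIdeal, mem_nonunits_iff] using hmax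
        rw [hu.smul_eq_zero, Submodule.mkQ_apply, Submodule.Quotient.mk_eq_zero] at ha
        exact hx ha
    refine hg (h (g ∘ₗ (N n).mkQ) ((hmemD _ _).2 fun y hy => ?_))
    rw [LinearMap.comp_apply, Submodule.mkQ_apply, (Submodule.Quotient.mk_eq_zero _).2 hy, map_zero]
  have hDanti : ∀ n k, D (n + k) ≤ D n := fun n k g hg =>
    (hmemD _ _).2 fun x hx => (hmemD _ _).1 hg x (hNmono n k hx)
  let J : ℕ → Ideal R := fun n => (D n).annihilator
  have hJmono : Monotone J := monotone_nat_of_le_succ fun n => Submodule.annihilator_mono (hDanti n 1)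
  obtain ⟨i₁, hi₁⟩ := monotone_stabilizes_iff_noetherian.2 inferInstance ⟨J, hJmono⟩
  by_cases htop : J i₁ = ⊤
  · refine ⟨i₁, fun x => hsep i₁ x fun g hg => ?_⟩
    have h1 := Submodule.mem_annihilator.1 (htop ▸ Submodule.mem_top : (1 : R) ∈ J i₁) g hg
    rw [one_smul] at h1
    rw [h1]; rfl
  exfalso
  obtain ⟨P, hP⟩ := Ideal.nonempty_minimalPrimes htop
  have : P.IsPrime := hP.1.1
  -- the localised chain in a module of finite length
  let Rp := Localization.AtPrime P
  let Dl := LocalizedModule P.primeCompl ↥(D i₁)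
  let ι : ↥(D i₁) →ₗ[R] Dl := LocalizedModule.mkLinearMap P.primeCompl ↥(D i₁)
  have : IsLocalizedModule P.primeCompl ι := inferInstance
  have : Module.Finite Rp Dl := inferInstance
  have hrad : ((J i₁).map (algebraMap R Rp)).radical = IsLocalRing.maximalIdeal Rp :=
    (IsLocalization.AtPrime.radical_map_of_mem_minimalPrimes Rp P _ hP).trans
      (IsLocalization.AtPrime.map_eq_maximalIdeal P Rp)
  obtain ⟨m, hm⟩ := Ideal.exists_radical_pow_le_of_fg ((J i₁).map (algebraMap R Rp)) (IsNoetherian.noetherian _)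
  have hkill : ∀ a ∈ IsLocalRing.maximalIdeal Rp ^ m, ∀ z : Dl, a • z = 0 := by
    intro a ha z
    rw [← hrad] at ha
    have hle : (J i₁).map (algebraMap R Rp) ≤ Module.annihilator Rp Dl := by
      rw [Ideal.map_le_iff_le_comap]
      intro r hr
      rw [Ideal.mem_comap, Module.mem_annihilator]
      intro z
      rw [algebraMap_smul]
      obtain ⟨⟨g, s⟩, rfl⟩ := IsLocalizedModule.mk'_surjective P.primeCompl ι z
      rw [Function.uncurry_apply_pair, ← IsLocalizedModule.mk'_smul,
        show r • g = 0 from Subtype.ext (Submodule.mem_annihilator.1 hr g g.2), IsLocalizedModule.mk'_zero]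
    exact Module.mem_annihilator.1 (hle (hm ha)) z
  have hfl : IsFiniteLength Rp Dl :=
    InjHull.isFiniteLength_of_pow_smul_eq_zero (IsLocalRing.maximalIdeal Rp) m Dl inferInstance hkill
  have : IsArtinian Rp Dl := (isFiniteLength_iff_isNoetherian_isArtinian.1 hfl).2
  let L : ℕ → Submodule Rp Dl := fun k =>
    (Submodule.comap (D i₁).subtype (D (i₁ + k))).localized' Rp P.primeCompl ι
  have hL : Antitone L := antitone_nat_of_succ_le fun k z hz => by
    obtain ⟨g, hg, s, rfl⟩ := hz
    exact ⟨g, hDanti (i₁ + k) 1 hg, s, rfl⟩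
  obtain ⟨k₀, hk₀⟩ := IsArtinian.monotone_stabilizes ⟨L, hL⟩
  have hc : ∀ g ∈ D (i₁ + k₀), ∃ c ∉ P, c • g ∈ D (i₁ + k₀ + 1) := by
    intro g hg
    have hmem : IsLocalizedModule.mk' ι ⟨g, hDanti i₁ k₀ hg⟩ (1 : P.primeCompl) ∈ L k₀ := ⟨_, hg, 1, rfl⟩
    rw [show L k₀ = L (k₀ + 1) from hk₀ (k₀ + 1) (Nat.le_succ _)] at hmem
    obtain ⟨g', hg', s, hs⟩ := hmem
    obtain ⟨c, hc⟩ := (IsLocalizedModule.mk'_eq_mk'_iff ι _ _ _ _).1 hs
    simp only [Submonoid.smul_def, one_smul] at hc
    refine ⟨c * s, fun h => (‹P.IsPrime›.mem_or_mem h).elim c.2 s.2, ?_⟩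
    have h1 := congrArg (D i₁).subtype hc
    simp only [map_smul, Submodule.coe_subtype] at h1
    rw [mul_smul]
    rw [h1]
    exact Submodule.smul_mem _ _ hg'
  obtain ⟨t, ht⟩ := IsNoetherian.noetherian (D (i₁ + k₀))
  have hspan : ∀ g ∈ t, g ∈ D (i₁ + k₀) := fun g hg => ht ▸ Submodule.subset_span hg
  choose! cf hcf hcf' using hc
  have hcP : ∏ g ∈ t, cf g ∉ P := by
    rw [Ideal.IsPrime.prod_mem_iff]
    push Not
    exact fun g hg => hcf g (hspan g hg)
  set c := ∏ g ∈ t, cf g
  set i₀ := i₁ + k₀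
  have hstep : ∀ x ∈ N (i₀ + 1), c • x ∈ N i₀ := by
    intro x hx
    refine hsep _ _ fun g hg => ?_
    have h1 : c • g ∈ D (i₀ + 1) := by
      rw [← ht] at hg
      induction hg using Submodule.span_induction with
      | mem g hg =>
        show (∏ g ∈ t, cf g) • g ∈ _
        rw [← Finset.prod_erase_mul t cf hg, mul_smul]
        exact Submodule.smul_mem _ _ (hcf' g (hspan g hg))
      | zero => rw [smul_zero]; exact zero_mem _
      | add a b _ _ ha hb => rw [smul_add]; exact add_mem ha hb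
      | smul r a _ ha => rw [smul_comm]; exact Submodule.smul_mem _ _ ha
    rw [map_smul, ← LinearMap.smul_apply]
    exact (hmemD _ _).1 h1 x hx
  have hsucc : ∀ n x, x ∈ N (n + 1) ↔ φ x ∈ N n := fun n x => by
    show (⇑φ)^[n + 1] x = 0 ↔ (⇑φ)^[n] (φ x) = 0
    rw [iterate_succ_apply]
  have hall : ∀ n, ∀ x ∈ N (i₀ + n), (c * c) • x ∈ N i₀ := by
    intro n
    induction n with
    | zero => exact fun x hx => Submodule.smul_mem _ _ hx
    | succ n ih =>
      intro x hx
      have h1 : (c * c) • φ x ∈ N i₀ := ih _ ((hsucc _ _).1 hx)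
      have h2 : φ (c • x) ∈ N i₀ := by
        rw [hφ, ← Nat.sub_add_cancel hp, pow_add, pow_two, mul_smul]
        exact Submodule.smul_mem _ _ h1
      rw [mul_smul]
      exact hstep _ ((hsucc _ _).2 h2)
  refine (‹P.IsPrime›.mem_or_mem (hP.1.2 ?_)).elim hcP hcP
  have hJeq : J i₁ = J i₀ := hi₁ i₀ (Nat.le_add_right _ _)
  show c * c ∈ J i₁
  rw [hJeq]
  refine Submodule.mem_annihilator.2 fun g hg => LinearMap.ext fun x => ?_
  obtain ⟨n, hn⟩ := hloc x
  have hx : x ∈ N (i₀ + n) := by
    show (⇑φ)^[i₀ + n] x = 0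
    rw [iterate_add_apply, hn, hzero]
  rw [LinearMap.smul_apply, ← map_smul, LinearMap.zero_apply]
  exact (hmemD _ _).1 hg _ (hall n x hx)

/-- A locally nilpotent Frobenius semilinear endomorphism of a cofinite module is nilpotent. -/
theorem nilpotent_small (A : Type u) [CommRing A] [IsLocalRing A] [IsNoetherianRing A] (p : ℕ) [Fact p.Prime]
    [CharP A p] (M : Type u) [AddCommGroup M] [Module A M]
    (htors : LocCoh.IsPowerTorsion (IsLocalRing.maximalIdeal A) M)
    (hsoc : Module.Finite A ↥(LocCoh.torsionBy (IsLocalRing.maximalIdeal A) M))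
    (φ : M →+ M) (hφ : ∀ (a : A) (x : M), φ (a • x) = a ^ p • φ x)
    (hloc : ∀ x : M, ∃ n : ℕ, (⇑φ)^[n] x = 0) : ∃ n : ℕ, ∀ x : M, (⇑φ)^[n] x = 0 := by
  classical
  let m := IsLocalRing.maximalIdeal A
  let B := AdicCompletion m A
  have : IsAdicComplete (IsLocalRing.maximalIdeal B) B :=
    inferInstanceAs (IsAdicComplete (IsLocalRing.maximalIdeal (AdicCompletion m A)) (AdicCompletion m A))
  have hbij := Groth.Agent.S5158.result A M htors
  let j : M →ₗ[A] TensorProduct A B M := TensorProduct.mk A B M 1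
  have : CharP B p :=
    charP_of_injective_algebraMap (AdicCompletion.of_injective m A) p
  let T : TensorProduct A B M →+ TensorProduct A B M :=
    TensorProduct.liftAddHom
      (AddMonoidHom.mk' (fun b => AddMonoidHom.mk' (fun x => (b ^ p) ⊗ₜ[A] φ x) fun x y => by
          rw [map_add, TensorProduct.tmul_add])
        fun b b' => AddMonoidHom.ext fun x => by
          show ((b + b') ^ p) ⊗ₜ[A] φ x = (b ^ p) ⊗ₜ[A] φ x + (b' ^ p) ⊗ₜ[A] φ x
          rw [add_pow_char, TensorProduct.add_tmul])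
      fun a b x => by
        show ((a • b) ^ p) ⊗ₜ[A] φ x = (b ^ p) ⊗ₜ[A] φ (a • x)
        rw [hφ, smul_pow, TensorProduct.smul_tmul]
  have hT : ∀ (b : B) (z : TensorProduct A B M), T (b • z) = b ^ p • T z := by
    intro b z
    induction z using TensorProduct.induction_on with
    | zero => simp
    | tmul b' x =>
      show ((b * b') ^ p) ⊗ₜ[A] φ x = b ^ p • ((b' ^ p) ⊗ₜ[A] φ x)
      rw [mul_pow, TensorProduct.smul_tmul', smul_eq_mul]
    | add y z hy hz => rw [smul_add, map_add, hy, hz, map_add, smul_add]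
  have hTj : ∀ x, T (j x) = j (φ x) := fun x => by
    show ((1 : B) ^ p) ⊗ₜ[A] φ x = (1 : B) ⊗ₜ[A] φ x
    rw [one_pow]
  have hTn : ∀ n x, (⇑T)^[n] (j x) = j ((⇑φ)^[n] x) := by
    intro n
    induction n with
    | zero => exact fun x => rfl
    | succ n ih => intro x; rw [iterate_succ_apply, iterate_succ_apply, hTj, ih]
  have hmax : IsLocalRing.maximalIdeal B = m.map (algebraMap A B) := AdicCompletion.maximalIdeal_eq_map
  have hpt : LocCoh.IsPowerTorsion (IsLocalRing.maximalIdeal B) (TensorProduct A B M) := by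
    intro z
    obtain ⟨x, rfl⟩ := hbij.2 z
    obtain ⟨n, hn⟩ := htors x
    refine ⟨n, fun b hb => ?_⟩
    rw [hmax, ← Ideal.map_pow] at hb
    have hle : (m ^ n).map (algebraMap A B) ≤ (Submodule.span B {j x}).annihilator := by
      rw [Ideal.map_le_iff_le_comap]
      intro a ha
      rw [Ideal.mem_comap, Submodule.mem_annihilator_span_singleton, algebraMap_smul, ← map_smul, hn a ha, map_zero]
    exact Submodule.mem_annihilator_span_singleton _ _ |>.1 (hle hb)
  have hfin : Module.Finite (B ⧸ IsLocalRing.maximalIdeal B)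
      ↥(LocCoh.torsionBy (IsLocalRing.maximalIdeal B) (TensorProduct A B M)) := by
    have hmem : ∀ x ∈ LocCoh.torsionBy m M, j x ∈ LocCoh.torsionBy (IsLocalRing.maximalIdeal B) (TensorProduct A B M) := by
      intro x hx
      rw [Submodule.mem_torsionBySet_iff] at hx ⊢
      rintro ⟨b, hb⟩
      have hle : m.map (algebraMap A B) ≤ (Submodule.span B {j x}).annihilator := by
        rw [Ideal.map_le_iff_le_comap]
        intro a ha
        rw [Ideal.mem_comap, Submodule.mem_annihilator_span_singleton, algebraMap_smul, ← map_smul, hx ⟨a, ha⟩, map_zero]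
      exact Submodule.mem_annihilator_span_singleton _ _ |>.1 (hle (hmax ▸ hb))
    have := hsoc
    have : Module.Finite B ↥(LocCoh.torsionBy (IsLocalRing.maximalIdeal B) (TensorProduct A B M)) := by
      let g : ↥(LocCoh.torsionBy m M) →ₗ[A] ↥(LocCoh.torsionBy (IsLocalRing.maximalIdeal B) (TensorProduct A B M)) :=
        { toFun := fun x => ⟨j x, hmem x x.2⟩
          map_add' := fun x y => Subtype.ext (map_add j _ _)
          map_smul' := fun a x => Subtype.ext (map_smul j a _) }
      have hg : Function.Surjective g := by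
        rintro ⟨z, hz⟩
        obtain ⟨x, rfl⟩ := hbij.2 z
        refine ⟨⟨x, ?_⟩, rfl⟩
        rw [Submodule.mem_torsionBySet_iff] at hz ⊢
        rintro ⟨a, ha⟩
        refine hbij.1 ?_
        show j (a • x) = j 0
        rw [map_smul, map_zero, ← algebraMap_smul B a (j x)]
        exact hz ⟨algebraMap A B a, hmax ▸ Ideal.mem_map_of_mem _ ha⟩
      have := Module.Finite.of_surjective g hg
      exact Module.Finite.of_restrictScalars_finite A B _
    exact Module.Finite.of_restrictScalars_finite B _ _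
  have : IsArtinian B (TensorProduct A B M) := (Groth.Agent.S0315.result B _).2 ⟨hpt, hfin⟩
  obtain ⟨n, hn⟩ := nilpotent_complete B (TensorProduct A B M) p (Fact.out : p.Prime).two_le T hT fun z => by
    obtain ⟨x, rfl⟩ := hbij.2 z
    obtain ⟨n, hn⟩ := hloc x
    exact ⟨n, by rw [show (TensorProduct.mk A B M 1) x = j x from rfl, hTn, hn, map_zero]⟩
  exact ⟨n, fun x => hbij.1 (by rw [map_zero]; exact (hTn n x).symm.trans (hn (j x)))⟩

/-- The theorem in any universe. -/
theorem nilpotent (A : Type u) [CommRing A] [IsLocalRing A] [IsNoetherianRing A] (p : ℕ) [Fact p.Prime]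
    [CharP A p] (M : Type v) [AddCommGroup M] [Module A M]
    (htors : LocCoh.IsPowerTorsion (IsLocalRing.maximalIdeal A) M)
    (hsoc : Module.Finite A ↥(LocCoh.torsionBy (IsLocalRing.maximalIdeal A) M))
    (φ : M →ₛₗ[frobenius A p] M) (hloc : ∀ x : M, ∃ n : ℕ, (⇑φ)^[n] x = 0) :
    ∃ n : ℕ, ∀ x : M, (⇑φ)^[n] x = 0 := by
  classical
  have hφ : ∀ (a : A) (x : M), φ (a • x) = a ^ p • φ x := fun a x => by rw [map_smulₛₗ, frobenius_def]
  by_contra hcon
  push Not at hcon
  choose w hw using hcon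
  let gen : ℕ × ℕ → M := fun q => (⇑φ)^[q.2] (w q.1)
  let S : Submodule A M := Submodule.span A (Set.range gen)
  have hS : ∀ x ∈ S, φ x ∈ S := by
    intro x hx
    induction hx using Submodule.span_induction with
    | mem y hy =>
      obtain ⟨q, rfl⟩ := hy
      exact Submodule.subset_span ⟨(q.1, q.2 + 1), iterate_succ_apply' _ _ _⟩
    | zero => rw [map_zero]; exact zero_mem _
    | add a b _ _ ha hb => rw [map_add]; exact add_mem ha hb
    | smul r a _ ha => rw [hφ]; exact Submodule.smul_mem _ _ ha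
  let e : (ℕ × ℕ →₀ A) →ₗ[A] ↥S :=
    LinearMap.codRestrict S (Finsupp.linearCombination A gen) fun l => by
      rw [show S = LinearMap.range (Finsupp.linearCombination A gen) from
        (Finsupp.range_linearCombination (R := A) (v := gen)).symm]
      exact ⟨l, rfl⟩
  have he : Function.Surjective e := by
    rintro ⟨x, hx⟩
    rw [show S = LinearMap.range (Finsupp.linearCombination A gen) from
      (Finsupp.range_linearCombination (R := A) (v := gen)).symm] at hx
    obtain ⟨l, rfl⟩ := hx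
    exact ⟨l, rfl⟩
  have : Small.{u} ↥S := small_of_surjective he
  let M' := Shrink.{u} ↥S
  let eq : M' ≃ₗ[A] ↥S := Shrink.linearEquiv A ↥S
  let j : M' →ₗ[A] M := S.subtype ∘ₗ eq.toLinearMap
  have hj : Function.Injective j := Subtype.val_injective.comp eq.injective
  let φ' : M' →+ M' := AddMonoidHom.mk' (fun x => eq.symm ⟨φ (j x), hS _ (eq x).2⟩) fun x y => by
    rw [← map_add]
    congr 1
    exact Subtype.ext (by simp)
  have hjφ : ∀ x, j (φ' x) = φ (j x) := fun x => by simp [j, φ']
  have hjn : ∀ n x, j ((⇑φ')^[n] x) = (⇑φ)^[n] (j x) := by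
    intro n
    induction n with
    | zero => exact fun x => rfl
    | succ n ih => intro x; rw [iterate_succ_apply', hjφ, ih, iterate_succ_apply']
  have hjS : ∀ q, ∃ x, j x = gen q := fun q =>
    ⟨eq.symm ⟨gen q, Submodule.subset_span ⟨q, rfl⟩⟩, by simp [j]⟩
  obtain ⟨n, hn⟩ := nilpotent_small A p M'
    (fun x => by
      obtain ⟨n, hn⟩ := htors (j x)
      exact ⟨n, fun a ha => hj (by rw [map_smul, hn a ha, map_zero])⟩)
    (by
      have := hsoc
      have : IsNoetherian A ↥(LocCoh.torsionBy (IsLocalRing.maximalIdeal A) M) := inferInstance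
      refine Module.Finite.of_injective
        (j.restrict (p := LocCoh.torsionBy (IsLocalRing.maximalIdeal A) M')
          (q := LocCoh.torsionBy (IsLocalRing.maximalIdeal A) M) fun x hx => ?_) fun x y h => ?_
      · rw [Submodule.mem_torsionBySet_iff] at hx ⊢
        intro a
        rw [← map_smul, hx a, map_zero]
      · have h2 := congrArg Subtype.val h
        simp only [LinearMap.coe_restrict_apply] at h2
        exact Subtype.ext (hj h2))
    φ' (fun a x => hj (by rw [hjφ, map_smul, hφ, map_smul, hjφ]))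
    (fun x => by
      obtain ⟨n, hn⟩ := hloc (j x)
      exact ⟨n, hj (by rw [hjn, hn, map_zero])⟩)
  obtain ⟨x, hx⟩ := hjS (n, 0)
  refine hw n ?_
  rw [show w n = j x from hx.symm, ← hjn, hn, map_zero]

end Groth.Agent.HSL
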